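import Cfsg.Agent.H0.OMcL.D
set_option maxRecDepth 100000
set_option Elab.async false
set_option linter.unusedSectionVars false
namespace H0.OMcL
open H0 BN 
theorem defs_ok : DefsOK R.p defs 13 := defsOK_of_chk c72
universe u
variable {G : Type u} [Group G] [Finite G] (m0 : Model G) (h0 : m0.R = H6M.MMcL.R)
noncomputable def m : Model G := m0.ext (lg := nat_lit 9) (N := nat_lit 512) (l := H6M.MMcL.nl) h0 nl nl_ok 13 rfl defs defs_ok (by decide +kernel)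
theorem mR : (m m0 h0).R = R := rfl
variable (hb : m0.pst [107, 3, 2, 1, 0] = ⊥) (hc : Nat.card G = 898128000)
include h0 hb hc
theorem base : (m m0 h0).pst [107, 3, 2, 1, 0] = ⊥ := hb
omit hb hc in
theorem xch_ok : (m m0 h0).ChainOK xch [] := ((m m0 h0).chain_cons [0, 1, 0, 1, 0, 1, 0, 1, 0, 1, 0, 1, 0, 1, 0] (Model.via _ (mR m0 h0) (fun R => Model.fixP R [] [[16], [17]]) c8) (Model.via _ (mR m0 h0) (fun R => Model.growP R [[16], [17]] [0, 1, 0, 1, 0, 1, 0, 1, 0, 1, 0, 1, 0, 1, 0] 156 275) c9) ((m m0 h0).chain_cons [0, 1, 0, 1, 0, 1, 0, 1, 0, 1, 0, 0, 1, 0] (Model.via _ (mR m0 h0) (fun R => Model.fixP R [156] [[18], [19]]) c6) (Model.via _ (mR m0 h0) (fun R => Model.growP R [[18], [19]] [0, 1, 0, 1, 0, 1, 0, 1, 0, 1, 0, 0, 1, 0] 213 162) c7) ((m m0 h0).chain_cons [0, 1, 0, 1, 0, 1, 0, 1, 0, 1, 0, 1, 1] (Model.via _ (mR m0 h0) (fun R => Model.fixP R [213, 156] [[20], [21]]) c4) (Model.via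 _ (mR m0 h0) (fun R => Model.growP R [[20], [21]] [0, 1, 0, 1, 0, 1, 0, 1, 0, 1, 0, 1, 1] 131 105) c5) ((m m0 h0).chain_cons [0, 1, 0, 2, 2, 1] (Model.via _ (mR m0 h0) (fun R => Model.fixP R [131, 213, 156] [[22], [23], [24]]) c2) (Model.via _ (mR m0 h0) (fun R => Model.growP R [[22], [23], [24]] [0, 1, 0, 2, 2, 1] 20 16) c3) ((m m0 h0).chain_cons [0, 1, 0, 1, 0] (Model.via _ (mR m0 h0) (fun R => Model.fixP R [20, 131, 213, 156] [[25], [26]]) c0) (Model.via _ (mR m0 h0) (fun R => Model.growP R [[25], [26]] [0, 1, 0, 1, 0] 130 12) c1) ((m m0 h0).chain_nil _))))))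
theorem xtop : gen (m m0 h0).g (Model.cgens xch) = ⊤ := (m m0 h0).chain_top (xch_ok m0 h0) (hc.trans (by decide +kernel))
theorem xbdd : (m m0 h0).Bdd := (m m0 h0).bdd_of_top (xtop m0 h0 hb hc)
theorem xot : (m m0 h0).OTOK xOT := ((m m0 h0).otok_cons (xch_ok m0 h0) (hc.trans (by decide +kernel)) 1 rfl (Model.via _ (mR m0 h0) (fun R => Model.invB R (Model.cgens (xch.drop 1)) xO0) c17) ((m m0 h0).otok_cons (xch_ok m0 h0) (hc.trans (by decide +kernel)) 1 rfl (Model.via _ (mR m0 h0) (fun R => Model.invB R (Model.cgens (xch.drop 1)) xO1) c16) ((m m0 h0).otok_cons (xch_ok m0 h0) (hc.trans (by decide +kernel)) 3 rfl (Model.via _ (mR m0 h0) (fun R => Model.invB R (Model.cgens (xch.drop 3)) xO2) c15) ((m m0 h0).otok_cons (xch_ok m0 h0) (hc.trans (by decide +kernel)) 0 rfl (Model.via _ (mR m0 h0) (fun R => Model.invB R (Model.cgens (xch.drop 0)) xO3) c14) (m m0 h0).otok_nil))))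
theorem xcm : ∀ w ∈ xCg, (m m0 h0).Cm [[13]] (ev (m m0 h0).g w) := (m m0 h0).cm_of_pairs (all_take_done (all_take_step (all_take_zero _ (xCg.flatMap fun w => [[13]].map fun y => (w ++ y, y ++ w))) ((m m0 h0).pairs_of (base m0 h0 hb hc) (Model.via _ (mR m0 h0) (fun R => pairsB R [107, 3, 2, 1, 0] (((xCg.flatMap fun w => [[13]].map fun y => (w ++ y, y ++ w)).drop 0).take 1)) c18))) (by decide +kernel))
theorem xn1 : (m m0 h0).Sol [[13]] xCg [130, 20, 131, 213, 156] [130, 20, 131, 213, 156] := (m m0 h0).sol_done [0, 1, 2, 3, 4] (((m m0 h0).chain_bot (xch_ok m0 h0) (hc.trans (by decide +kernel))).le.trans bot_le) (by decide +kernel)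
theorem xn0 : (m m0 h0).Sol [[13]] xCg [] [] := (m m0 h0).sol_free (xbdd m0 h0 hb hc) (xcm m0 h0 hb hc) (xot m0 h0 hb hc) ((m m0 h0).excl_zero _ _) (Model.via _ (mR m0 h0) (fun R => freeB R xOT [[13]] xCg [] [] [] [] 156 0 [([], 156, 3)] [[0]] [0, 0, 0, 0, 0, 0, 0, 0, 0, 0] xc13) c13) ((m m0 h0).solL_leaves (xot m0 h0 hb hc) [0] (Bc := [130, 20, 131, 213, 156]) (Model.via _ (mR m0 h0) (fun R => cycB R (subst [[13]] [0]) [130, 20, 131, 213, 156]) c10) (Model.via _ (mR m0 h0) (fun R => allL (leafB R xOT (subst [[13]] [0]) [0, 1, 2, 3, 4] [130, 20, 131, 213, 156] [] []) xL12) c12) ((m m0 h0).solL_cons ((m m0 h0).sol_cyc [0] (Bc := [130, 20, 131, 213, 156]) (T := [130, 20, 131, 213, 156]) rfl (Model.via _ (mR m0 h0) (fun R => cycB R (subst [[13]] [0]) [130, 20, 131, 213, 156]) c10) (Model.via _ (mR m0 h0) (fun R => cycB R (subst [[13]] [0]) [130, 20, 131, 213, 156]) c11) (xn1 m0 h0 hb hc)) (m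 m0 h0).solL_nil))
theorem xsol : (m m0 h0).Sol [[13]] xCg [] [] := xn0 m0 h0 hb hc
omit hb hc in
theorem ych_ok : (m m0 h0).ChainOK ych [] := ((m m0 h0).chain_cons [0, 1, 0, 1, 0, 1, 0, 1, 0, 1, 0, 1, 0, 0, 1] (Model.via _ (mR m0 h0) (fun R => Model.fixP R [] [[16], [17]]) c29) (Model.via _ (mR m0 h0) (fun R => Model.growP R [[16], [17]] [0, 1, 0, 1, 0, 1, 0, 1, 0, 1, 0, 1, 0, 0, 1] 177 275) c30) ((m m0 h0).chain_cons [0, 1, 1, 0, 1, 0, 1, 0, 1, 0, 1, 1, 0, 1, 1, 0, 1, 1, 0, 1, 1, 0] (Model.via _ (mR m0 h0) (fun R => Model.fixP R [177] [[27], [28]]) c27) (Model.via _ (mR m0 h0) (fun R => Model.growP R [[27], [28]] [0, 1, 1, 0, 1, 0, 1, 0, 1, 0, 1, 1, 0, 1, 1, 0, 1, 1, 0, 1, 1, 0] 0 112) c28) ((m m0 h0).chain_cons [0, 1, 0, 1, 0, 1, 1, 0, 1, 0, 1] (Model.via _ (mR m0 h0) (fun R => Model.fixP R [0, 177] [[29], [30]]) c25) (Model.via _ (mR m0 h0) (fun R => Model.growP R [[29], [30]] [0, 1, 0,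 1, 0, 1, 1, 0, 1, 0, 1] 42 81) c26) ((m m0 h0).chain_cons [0, 1, 0, 1, 0, 1, 0, 1, 0, 1] (Model.via _ (mR m0 h0) (fun R => Model.fixP R [42, 0, 177] [[31], [32]]) c23) (Model.via _ (mR m0 h0) (fun R => Model.growP R [[31], [32]] [0, 1, 0, 1, 0, 1, 0, 1, 0, 1] 91 36) c24) ((m m0 h0).chain_cons [0, 0, 1] (Model.via _ (mR m0 h0) (fun R => Model.fixP R [91, 42, 0, 177] [[33], [34]]) c21) (Model.via _ (mR m0 h0) (fun R => Model.growP R [[33], [34]] [0, 0, 1] 98 5) c22) ((m m0 h0).chain_cons [0] (Model.via _ (mR m0 h0) (fun R => Model.fixP R [98, 91, 42, 0, 177] [[35]]) c19) (Model.via _ (mR m0 h0) (fun R => Model.growP R [[35]] [0] 129 2) c20) ((m m0 h0).chain_nil _)))))))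
theorem ytop : gen (m m0 h0).g (Model.cgens ych) = ⊤ := (m m0 h0).chain_top (ych_ok m0 h0) (hc.trans (by decide +kernel))
theorem ybdd : (m m0 h0).Bdd := (m m0 h0).bdd_of_top (ytop m0 h0 hb hc)
theorem yot : (m m0 h0).OTOK yOT := ((m m0 h0).otok_cons (ych_ok m0 h0) (hc.trans (by decide +kernel)) 4 rfl (Model.via _ (mR m0 h0) (fun R => Model.invB R (Model.cgens (ych.drop 4)) yO0) c62) ((m m0 h0).otok_cons (ych_ok m0 h0) (hc.trans (by decide +kernel)) 3 rfl (Model.via _ (mR m0 h0) (fun R => Model.invB R (Model.cgens (ych.drop 3)) yO1) c61) ((m m0 h0).otok_cons (ych_ok m0 h0) (hc.trans (by decide +kernel)) 2 rfl (Model.via _ (mR m0 h0) (fun R => Model.invB R (Model.cgens (ych.drop 2)) yO2) c60) ((m m0 h0).otok_cons (ych_ok m0 h0) (hc.trans (by decide +kernel)) 5 rfl (Model.via _ (mR m0 h0) (fun R => Model.invB R (Model.cgens (ych.drop 5)) yO3) c59) ((m m0 h0).otok_cons (ych_ok m0 h0) (hc.trans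 (by decide +kernel)) 1 rfl (Model.via _ (mR m0 h0) (fun R => Model.invB R (Model.cgens (ych.drop 1)) yO4) c58) ((m m0 h0).otok_cons (ych_ok m0 h0) (hc.trans (by decide +kernel)) 0 rfl (Model.via _ (mR m0 h0) (fun R => Model.invB R (Model.cgens (ych.drop 0)) yO5) c57) (m m0 h0).otok_nil))))))
theorem ycm : ∀ w ∈ yCg, (m m0 h0).Cm [[14]] (ev (m m0 h0).g w) := (m m0 h0).cm_of_pairs (all_take_done (all_take_step (all_take_zero _ (yCg.flatMap fun w => [[14]].map fun y => (w ++ y, y ++ w))) ((m m0 h0).pairs_of (base m0 h0 hb hc) (Model.via _ (mR m0 h0) (fun R => pairsB R [107, 3, 2, 1, 0] (((yCg.flatMap fun w => [[14]].map fun y => (w ++ y, y ++ w)).drop 0).take 2)) c63))) (by decide +kernel))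
theorem yn5 : (m m0 h0).Sol [[14]] yCg [129, 98, 91, 42, 0, 177] [129, 98, 91, 42, 0, 177] := (m m0 h0).sol_done [0, 1, 2, 3, 4, 5] (((m m0 h0).chain_bot (ych_ok m0 h0) (hc.trans (by decide +kernel))).le.trans bot_le) (by decide +kernel)
theorem yn4 : (m m0 h0).Sol [[14]] yCg [91, 42, 0, 177] [91, 42, 0, 177] := (m m0 h0).sol_free (ybdd m0 h0 hb hc) (ycm m0 h0 hb hc) (yot m0 h0 hb hc) ((m m0 h0).excl_zero _ _) (Model.via _ (mR m0 h0) (fun R => freeB R yOT [[14]] yCg [0, 1, 2, 3] [91, 42, 0, 177] [91, 42, 0, 177] [] 98 0 [([], 98, 0)] [[0]] [0, 0, 0, 0] yc37) c37) ((m m0 h0).solL_cons ((m m0 h0).sol_cyc [0] (Bc := [129, 98]) (T := [129, 98]) rfl (Model.via _ (mR m0 h0) (fun R => cycB R (subst [[14]] [0]) [129, 98]) c35) (Model.via _ (mR m0 h0) (fun R => cycB R (subst [[14]] [0]) [129, 98]) c36) (yn5 m0 h0 hb hc)) (m m0 h0).solL_nil)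
theorem yn3 : (m m0 h0).Sol [[14]] yCg [42, 0, 177] [42, 0, 177] := (m m0 h0).sol_free (ybdd m0 h0 hb hc) (ycm m0 h0 hb hc) (yot m0 h0 hb hc) ((m m0 h0).excl_mov (ybdd m0 h0 hb hc) [0] (Model.via _ (mR m0 h0) (fun R => exclB R (subst [[14]] [0]) 91 yD3) c39)) (Model.via _ (mR m0 h0) (fun R => freeB R yOT [[14]] yCg [0, 1, 2] [42, 0, 177] [42, 0, 177] [] 91 yD3 [([], 91, 1)] [[0]] [] yc40) c40) ((m m0 h0).solL_cons ((m m0 h0).sol_cyc [] (Bc := [91]) (T := [91]) rfl (Model.via _ (mR m0 h0) (fun R => cycB R (subst [[14]] []) [91]) c34) (Model.via _ (mR m0 h0) (fun R => cycB R (subst [[14]] []) [91]) c38) (yn4 m0 h0 hb hc)) (m m0 h0).solL_nil)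
theorem yn2 : (m m0 h0).Sol [[14]] yCg [0, 177] [0, 177] := (m m0 h0).sol_free (ybdd m0 h0 hb hc) (ycm m0 h0 hb hc) (yot m0 h0 hb hc) ((m m0 h0).excl_mov (ybdd m0 h0 hb hc) [0] (Model.via _ (mR m0 h0) (fun R => exclB R (subst [[14]] [0]) 42 yD2) c42)) (Model.via _ (mR m0 h0) (fun R => freeB R yOT [[14]] yCg [0, 1] [0, 177] [0, 177] [] 42 yD2 [([], 42, 2)] [[0]] [] yc43) c43) ((m m0 h0).solL_cons ((m m0 h0).sol_cyc [] (Bc := [42]) (T := [42]) rfl (Model.via _ (mR m0 h0) (fun R => cycB R (subst [[14]] []) [42]) c33) (Model.via _ (mR m0 h0) (fun R => cycB R (subst [[14]] []) [42]) c41) (yn3 m0 h0 hb hc)) (m m0 h0).solL_nil)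
theorem yn8 : (m m0 h0).Sol [[14]] yCg [91, 42, 0, 177] [0, 192, 91, 177] := (m m0 h0).sol_free (ybdd m0 h0 hb hc) (ycm m0 h0 hb hc) (yot m0 h0 hb hc) ((m m0 h0).excl_zero _ _) (Model.via _ (mR m0 h0) (fun R => freeB R yOT [[14]] yCg [0, 1, 2, 3] [91, 42, 0, 177] [0, 192, 91, 177] [31, 32, 30, 30, 30, 27, 28, 28, 27] 98 0 [([], 98, 0)] [[0]] [0, 0, 0, 0] yc46) c46) ((m m0 h0).solL_leaves (yot m0 h0 hb hc) [0] (Bc := [129, 98]) (Model.via _ (mR m0 h0) (fun R => cycB R (subst [[14]] [0]) [129, 98]) c35) (Model.via _ (mR m0 h0) (fun R => allL (leafB R yOT (subst [[14]] [0]) [0, 1, 2, 3, 4, 5] [129, 98] [91, 42, 0, 177] [0, 192, 91, 177]) yL45) c45) (m m0 h0).solL_nil)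
theorem yn7 : (m m0 h0).Sol [[14]] yCg [42, 0, 177] [192, 91, 177] := (m m0 h0).sol_free (ybdd m0 h0 hb hc) (ycm m0 h0 hb hc) (yot m0 h0 hb hc) ((m m0 h0).excl_mov (ybdd m0 h0 hb hc) [0] (Model.via _ (mR m0 h0) (fun R => exclB R (subst [[14]] [0]) 91 yD3) c39)) (Model.via _ (mR m0 h0) (fun R => freeB R yOT [[14]] yCg [0, 1, 2] [42, 0, 177] [192, 91, 177] [30, 30, 30, 27, 28, 28, 27] 91 yD3 [([], 91, 1)] [[0]] [] yc48) c48) ((m m0 h0).solL_cons ((m m0 h0).sol_cyc [] (Bc := [91]) (T := [0]) rfl (Model.via _ (mR m0 h0) (fun R => cycB R (subst [[14]] []) [91]) c34) (Model.via _ (mR m0 h0) (fun R => cycB R (subst [[14]] []) [0]) c47) (yn8 m0 h0 hb hc)) (m m0 h0).solL_nil)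
theorem yn6 : (m m0 h0).Sol [[14]] yCg [0, 177] [91, 177] := (m m0 h0).sol_free (ybdd m0 h0 hb hc) (ycm m0 h0 hb hc) (yot m0 h0 hb hc) ((m m0 h0).excl_mov (ybdd m0 h0 hb hc) [0] (Model.via _ (mR m0 h0) (fun R => exclB R (subst [[14]] [0]) 42 yD2) c42)) (Model.via _ (mR m0 h0) (fun R => freeB R yOT [[14]] yCg [0, 1] [0, 177] [91, 177] [27, 28, 28, 27] 42 yD2 [([], 42, 2)] [[0]] [] yc50) c50) ((m m0 h0).solL_cons ((m m0 h0).sol_cyc [] (Bc := [42]) (T := [192]) rfl (Model.via _ (mR m0 h0) (fun R => cycB R (subst [[14]] []) [42]) c33) (Model.via _ (mR m0 h0) (fun R => cycB R (subst [[14]] []) [192]) c49) (yn7 m0 h0 hb hc)) (m m0 h0).solL_nil)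
theorem yn1 : (m m0 h0).Sol [[14]] yCg [177] [177] := (m m0 h0).sol_free (ybdd m0 h0 hb hc) (ycm m0 h0 hb hc) (yot m0 h0 hb hc) ((m m0 h0).excl_mov (ybdd m0 h0 hb hc) [0] (Model.via _ (mR m0 h0) (fun R => exclB R (subst [[14]] [0]) 0 yD1) c52)) (Model.via _ (mR m0 h0) (fun R => freeB R yOT [[14]] yCg [0] [177] [177] [] 0 yD1 [([], 0, 4)] [[0]] [] yc53) c53) ((m m0 h0).solL_cons ((m m0 h0).sol_cyc [] (Bc := [0]) (T := [91]) rfl (Model.via _ (mR m0 h0) (fun R => cycB R (subst [[14]] []) [0]) c32) (Model.via _ (mR m0 h0) (fun R => cycB R (subst [[14]] []) [91]) c51) (yn6 m0 h0 hb hc)) ((m m0 h0).solL_cons ((m m0 h0).sol_cyc [] (Bc := [0]) (T := [0]) rfl (Model.via _ (mR m0 h0) (fun R => cycB R (subst [[14]] []) [0]) c32) (Model.via _ (mR m0 h0) (fun R => cycB R (subst [[14]] []) [0]) c44) (yn2 m0 h0 hb hc)) (m m0 h0).solL_nil))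
theorem yn0 : (m m0 h0).Sol [[14]] yCg [] [] := (m m0 h0).sol_free (ybdd m0 h0 hb hc) (ycm m0 h0 hb hc) (yot m0 h0 hb hc) ((m m0 h0).excl_mov (ybdd m0 h0 hb hc) [0] (Model.via _ (mR m0 h0) (fun R => exclB R (subst [[14]] [0]) 177 yD0) c55)) (Model.via _ (mR m0 h0) (fun R => freeB R yOT [[14]] yCg [] [] [] [] 177 yD0 [([], 177, 5)] [[0], [1]] [1, 1, 1, 1] yc56) c56) ((m m0 h0).solL_cons ((m m0 h0).sol_cyc [] (Bc := [177]) (T := [177]) rfl (Model.via _ (mR m0 h0) (fun R => cycB R (subst [[14]] []) [177]) c31) (Model.via _ (mR m0 h0) (fun R => cycB R (subst [[14]] []) [177]) c54) (yn1 m0 h0 hb hc)) (m m0 h0).solL_nil)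
theorem ysol : (m m0 h0).Sol [[14]] yCg [] [] := yn0 m0 h0 hb hc
theorem inj : Function.Injective (m m0 h0).φ := (m m0 h0).inj_of_base (base m0 h0 hb hc)
theorem gtop : gen (m m0 h0).g ([13, 14, 15].map fun x => [x]) = ⊤ :=
  top_of_marks ((m m0 h0).defsOK_g (inj m0 h0 hb hc) ((mR m0 h0).symm ▸ defs_ok)) _ (xtop m0 h0 hb hc) (by decide +kernel)
theorem cl : ∀ k ∈ Subgroup.centralizer {ev (m m0 h0).g [14]}, ∃ w ∈ CL, k = ev (m m0 h0).g w := fun k hk =>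
  list_closed (all_take_done (all_take_step (all_take_zero _ CE) ((m m0 h0).pairs_of (base m0 h0 hb hc) (Model.via _ (mR m0 h0) (fun R => pairsB R [107, 3, 2, 1, 0] ((CE.drop 0).take 50)) c64))) (by decide +kernel)) (by decide +kernel) k ((m m0 h0).cent_le (ysol m0 h0 hb hc) hk)
theorem ocl : (m m0 h0).OutCl 13 14 15 [(1, []), (1, [36])] :=
  (m m0 h0).outCl (r := 11) (t := 3) (s := 5) (e := 1) (n := 2) (K := [1, 2]) (RL := RL) (EL := EL) hc (by decide +kernel) (by decide +kernel)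
    (all_take_done (all_take_step (all_take_zero _ (Model.outE 13 14 15 [14] 11 3 1 2 RL)) ((m m0 h0).pairs_of (base m0 h0 hb hc) (Model.via _ (mR m0 h0) (fun R => pairsB R [107, 3, 2, 1, 0] (((Model.outE 13 14 15 [14] 11 3 1 2 RL).drop 0).take 6)) c65))) (by decide +kernel)) ((m m0 h0).ne_of_neB (Model.via _ (mR m0 h0) (fun R => neB R [13] [] 0 63 0) c66)) (xsol m0 h0 hb hc) (cl m0 h0 hb hc)
    (by decide +kernel) (by decide +kernel) (all_take_done (all_take_step (all_take_zero _ EL) (allL_spec (Model.via _ (mR m0 h0) (fun R => allL (elimB R 13 14 15 RL [(1, []), (1, [36])]) ((EL.drop 0).take 50)) c67))) (by decide +kernel))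
theorem outer : ∃ α, α ∉ Cfsg.Inn G :=
  (m m0 h0).exists_outer (inj m0 h0 hb hc) (mR m0 h0) s37 nl3_ok (k := 1) (e := 1) (c := [36]) (gtop m0 h0 hb hc) (by decide +kernel)
    (List.forall_mem_cons.2 ⟨(eq_of_eqW R2 c69), List.forall_mem_cons.2 ⟨(eq_of_eqW R2 c70), List.forall_mem_cons.2 ⟨(eq_of_eqW R2 c71), List.forall_mem_nil _⟩⟩⟩) rfl (cl m0 h0 hb hc) (NL := NL) (by decide +kernel) (all_take_done (all_take_step (all_take_zero _ NL) (allL_spec (Model.via _ (mR m0 h0) (fun R => allL (innB R 13 15 1 [36]) ((NL.drop 0).take 25)) c68))) (by decide +kernel))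
theorem out : Nat.card (Cfsg.Out G) = 2 := (m m0 h0).out_two (gtop m0 h0 hb hc) (ocl m0 h0 hb hc) (outer m0 h0 hb hc)
end H0.OMcL
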